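import Groth.Agent.H1PerfTor.Basic
import Groth.Agent.H1TorUnif.Blowup
import Mathlib

/-! Degreewise acyclicity of `X ⊗ Q`. -/

set_option autoImplicit false
set_option backward.isDefEq.respectTransparency false
set_option backward.isDefEq.respectTransparency.types false
set_option linter.style.haveILetI false

universe u

open TensorProduct CategoryTheory H1PerfTor

namespace H1TorFlat

variable {A : Type u} [CommRing A] {Y : ModuleCat.{u} A} (Q : ProjectiveResolution Y)

/-- Exactness in degree `p + 1`. -/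
def Ex (X : Type u) [AddCommGroup X] [Module A X] (p : ℕ) : Prop :=
  ∀ z, (dQ Q p).lTensor X z = 0 → z ∈ Set.range ((dQ Q (p + 1)).lTensor X)

theorem ex_of_flat {X : Type u} [AddCommGroup X] [Module A X] [Module.Flat A X] (p : ℕ) : Ex Q X p :=
  fun z hz => (good_of_flat Q p z).1 hz

theorem dd_zero {X : Type u} [AddCommGroup X] [Module A X] (p : ℕ) (z : X ⊗[A] Q.complex.X (p + 2)) :
    (dQ Q p).lTensor X ((dQ Q (p + 1)).lTensor X z) = 0 := by
  rw [← LinearMap.comp_apply, ← LinearMap.lTensor_comp, dQ_dQ, LinearMap.lTensor_zero, LinearMap.zero_apply]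

variable {X₁ X₂ X₃ : Type u} [AddCommGroup X₁] [Module A X₁] [AddCommGroup X₂] [Module A X₂]
  [AddCommGroup X₃] [Module A X₃] (i : X₁ →ₗ[A] X₂) (π : X₂ →ₗ[A] X₃) (hi : Function.Injective i)
  (hπ : Function.Surjective π) (hex : Function.Exact i π)

include hi hπ hex

omit hi in
theorem middle (p : ℕ) (h1 : Ex Q X₁ p) (h3 : Ex Q X₃ p) (hi' : Function.Injective i) : Ex Q X₂ p := by
  intro z hz
  obtain ⟨s, hs⟩ := h3 (π.rTensor _ z) (by rw [← comm_apply, hz, map_zero])
  obtain ⟨s, rfl⟩ := LinearMap.rTensor_surjective _ hπ s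
  rw [← comm_apply] at hs
  obtain ⟨x, hx⟩ := (rTensor_exact (Q.complex.X (p + 1)) hex hπ _).1
    (show π.rTensor _ (z - (dQ Q (p + 1)).lTensor X₂ s) = 0 by rw [map_sub, hs, sub_self])
  obtain ⟨w, rfl⟩ := h1 x (Module.Flat.rTensor_preserves_injective_linearMap (M := Q.complex.X p) i hi' (by
    rw [map_zero, comm_apply, hx, map_sub, hz, dd_zero, sub_zero]))
  refine ⟨s + i.rTensor _ w, ?_⟩
  rw [map_add, ← comm_apply, hx, add_sub_cancel]

theorem coker_zero (h2 : Ex Q X₂ 0) (hY : Function.Injective (i.rTensor Y)) : Ex Q X₃ 0 := by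
  intro z hz
  obtain ⟨y, rfl⟩ := LinearMap.rTensor_surjective _ hπ z
  rw [← comm_apply] at hz
  obtain ⟨x, hx⟩ := (rTensor_exact (Q.complex.X 0) hex hπ _).1 hz
  obtain ⟨w, rfl⟩ := (aug_exact Q X₁ x).1 (hY (by
    rw [map_zero, comm_apply i, hx, (aug_exact Q X₂).apply_apply_eq_zero]))
  obtain ⟨s, hs⟩ := h2 (y - i.rTensor _ w) (by rw [map_sub, ← comm_apply, hx, sub_self])
  refine ⟨π.rTensor _ s, ?_⟩
  rw [← comm_apply, hs, map_sub, ← LinearMap.comp_apply, ← LinearMap.rTensor_comp, hex.linearMap_comp_eq_zero,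
    LinearMap.rTensor_zero, LinearMap.zero_apply, sub_zero]

theorem coker_succ (p : ℕ) (h1 : Ex Q X₁ p) (h2 : Ex Q X₂ (p + 1)) : Ex Q X₃ (p + 1) := by
  intro z hz
  obtain ⟨y, rfl⟩ := LinearMap.rTensor_surjective _ hπ z
  rw [← comm_apply] at hz
  obtain ⟨x, hx⟩ := (rTensor_exact (Q.complex.X (p + 1)) hex hπ _).1 hz
  obtain ⟨w, rfl⟩ := h1 x (Module.Flat.rTensor_preserves_injective_linearMap (M := Q.complex.X p) i hi (by
    rw [map_zero, comm_apply, hx, dd_zero]))
  obtain ⟨s, hs⟩ := h2 (y - i.rTensor _ w) (by rw [map_sub, ← comm_apply, hx, sub_self])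
  refine ⟨π.rTensor _ s, ?_⟩
  rw [← comm_apply, hs, map_sub, ← LinearMap.comp_apply, ← LinearMap.rTensor_comp, hex.linearMap_comp_eq_zero,
    LinearMap.rTensor_zero, LinearMap.zero_apply, sub_zero]

theorem sub (p : ℕ) (h2 : Ex Q X₂ p) (h3 : Ex Q X₃ (p + 1)) : Ex Q X₁ p := by
  intro z hz
  obtain ⟨y, hy⟩ := h2 (i.rTensor _ z) (by rw [← comm_apply, hz, map_zero])
  obtain ⟨s, hs⟩ := h3 (π.rTensor _ y) (by
    rw [← comm_apply, hy, ← LinearMap.comp_apply, ← LinearMap.rTensor_comp, hex.linearMap_comp_eq_zero,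
      LinearMap.rTensor_zero, LinearMap.zero_apply])
  obtain ⟨s, rfl⟩ := LinearMap.rTensor_surjective _ hπ s
  rw [← comm_apply] at hs
  obtain ⟨x, hx⟩ := (rTensor_exact (Q.complex.X (p + 2)) hex hπ _).1
    (show π.rTensor _ (y - (dQ Q (p + 2)).lTensor X₂ s) = 0 by rw [map_sub, hs, sub_self])
  refine ⟨x, Module.Flat.rTensor_preserves_injective_linearMap (M := Q.complex.X (p + 1)) i hi ?_⟩
  rw [comm_apply, hx, map_sub, dd_zero, sub_zero, hy]

theorem rTensor_injective (h3 : Ex Q X₃ 0) : Function.Injective (i.rTensor Y) := by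
  refine (injective_iff_map_eq_zero _).2 fun c hc => ?_
  obtain ⟨w, rfl⟩ := LinearMap.lTensor_surjective X₁ (aug_surjective Q) c
  rw [comm_apply i] at hc
  obtain ⟨y, hy⟩ := (aug_exact Q X₂ _).1 hc
  obtain ⟨s, hs⟩ := h3 (π.rTensor _ y) (by
    rw [← comm_apply, hy, ← LinearMap.comp_apply, ← LinearMap.rTensor_comp, hex.linearMap_comp_eq_zero,
      LinearMap.rTensor_zero, LinearMap.zero_apply])
  obtain ⟨s, rfl⟩ := LinearMap.rTensor_surjective _ hπ s
  rw [← comm_apply] at hs
  obtain ⟨x, hx⟩ := (rTensor_exact (Q.complex.X 1) hex hπ _).1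
    (show π.rTensor _ (y - (dQ Q 1).lTensor X₂ s) = 0 by rw [map_sub, hs, sub_self])
  refine (aug_exact Q X₁ w).2 ⟨x, Module.Flat.rTensor_preserves_injective_linearMap (M := Q.complex.X 0) i hi ?_⟩
  rw [comm_apply, hx, map_sub, dd_zero, sub_zero, hy]

omit hi hπ hex
variable {X : Type u} [AddCommGroup X] [Module A X]

theorem ex_of_equiv (e : X₁ ≃ₗ[A] X) (p : ℕ) (h : Ex Q X₁ p) : Ex Q X p := by
  intro z hz
  obtain ⟨y, hy⟩ := h (e.symm.toLinearMap.rTensor _ z) (by rw [← comm_apply, hz, map_zero])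
  refine ⟨e.toLinearMap.rTensor _ y, ?_⟩
  rw [← comm_apply, hy, ← LinearMap.comp_apply, ← LinearMap.rTensor_comp]
  simp

theorem ex_colim {ι : Type u} [Preorder ι] [IsDirectedOrder ι] [Nonempty ι] {Xi : ι → Type u}
    [∀ j, AddCommGroup (Xi j)] [∀ j, Module A (Xi j)] (S : Colim (A := A) ι Xi X) (p : ℕ)
    (h : ∀ j, Ex Q (Xi j) p) : Ex Q X p := by
  intro z hz
  obtain ⟨j, w, rfl⟩ := S.rTensor_surj _ z
  rw [← comm_apply] at hz
  obtain ⟨k, hjk, hk⟩ := S.rTensor_kill _ j _ hz
  rw [comm_apply] at hk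
  obtain ⟨y, hy⟩ := h k _ hk
  refine ⟨(S.u k).rTensor _ y, ?_⟩
  rw [← comm_apply, hy, ← LinearMap.comp_apply, ← LinearMap.rTensor_comp, S.comp]

theorem ex_finsupp (κ : Type u) (p : ℕ) (h : Ex Q X p) : Ex Q (κ →₀ X) p := by
  classical
  intro z hz
  let e := fun n => TensorProduct.finsuppLeft A A X (Q.complex.X n) κ
  have hnat : ∀ (n : ℕ) (v : (κ →₀ X) ⊗[A] Q.complex.X (n + 1)) (j : κ),
      e n ((dQ Q n).lTensor (κ →₀ X) v) j = (dQ Q n).lTensor X (e (n + 1) v j) := fun n v j => by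
    induction v using TensorProduct.induction_on with
    | zero => simp
    | tmul x q => simp [e, TensorProduct.finsuppLeft_apply_tmul_apply]
    | add a b ha hb => simp only [map_add, Finsupp.add_apply, ha, hb]
  have hj : ∀ j, e (p + 1) z j ∈ Set.range ((dQ Q (p + 1)).lTensor X) := fun j =>
    h _ (by rw [← hnat, hz]; simp)
  choose y hy using hj
  let y' : κ →₀ X ⊗[A] Q.complex.X (p + 2) :=
    Finsupp.onFinset (e (p + 1) z).support (fun j => if j ∈ (e (p + 1) z).support then y j else 0)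
      fun j hj => by by_contra hne; exact hj (if_neg hne)
  refine ⟨(e (p + 2)).symm y', (e (p + 1)).injective (Finsupp.ext fun j => ?_)⟩
  rw [hnat, LinearEquiv.apply_symm_apply]
  show (dQ Q (p + 1)).lTensor X (if j ∈ (e (p + 1) z).support then y j else 0) = _
  split_ifs with hmem
  · exact hy j
  · rw [map_zero, Finsupp.notMem_support_iff.1 hmem]

theorem ex_iff_homology (p : ℕ) : Ex Q X p ↔
    Subsingleton ((H1TorAR.C Q (ModuleCat.of A X)).homology (p + 1)) := by
  rw [← ModuleCat.isZero_iff_subsingleton, ← HomologicalComplex.exactAt_iff_isZero_homology,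
    HomologicalComplex.exactAt_iff' _ (p + 2) (p + 1) p (by simp) (by simp), ShortComplex.moduleCat_exact_iff]
  exact Iff.rfl

theorem ex_iff_tor {M : ModuleCat.{u} A} (p : ℕ) : Ex (projectiveResolution M) X p ↔
    Subsingleton (((Tor (ModuleCat.{u} A) (p + 1)).obj M).obj (ModuleCat.of A X)) := by
  rw [ex_iff_homology]
  obtain ⟨e⟩ := Groth.Agent.CAlgOdd.TorSymm.nonempty_flip (R := A) (p + 1)
  exact ((((e.app M).app (ModuleCat.of A X)).toLinearEquiv.trans
    ((projectiveResolution M).isoLeftDerivedObj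
      (Groth.Agent.TorBridge.KerNat.ten (ModuleCat.of A X)) (p + 1)).toLinearEquiv).toEquiv.subsingleton_congr).symm

theorem ex_of_isUnit {M : ModuleCat.{u} A} (f : A)
    [Module.Flat A (LocalizedModule (Submonoid.powers f) M)]
    (hu : Function.Bijective fun x : X => f • x) (p : ℕ) : Ex (projectiveResolution M) X p := by
  rw [ex_iff_tor]
  let Q := projectiveResolution (ModuleCat.of A X)
  have H : ∀ z : ((((Groth.Agent.TorBridge.KerNat.ten M).mapHomologicalComplex _).obj Q.complex).homology (p + 1)),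
      ∃ n : ℕ, f ^ n • z = 0 := by
    intro z
    let K := ((Groth.Agent.TorBridge.KerNat.ten M).mapHomologicalComplex _).obj Q.complex
    obtain ⟨c, rfl⟩ := (ModuleCat.epi_iff_surjective (K.homologyπ (p + 1))).1 inferInstance z
    let g := LocalizedModule.mkLinearMap (Submonoid.powers f) M
    haveI hloc : ∀ (N : Type u) [AddCommGroup N] [Module A N], IsLocalizedModule (Submonoid.powers f) (g.rTensor N) :=
      fun N _ _ => inferInstanceAs (IsLocalizedModule (Submonoid.powers f) (AlgebraTensorModule.rTensor A N g))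
    have hc : (dQ Q p).lTensor M (K.iCycles (p + 1) c) = 0 := by
      show (K.iCycles (p + 1) ≫ K.d (p + 1) p).hom c = 0
      rw [K.iCycles_d]; rfl
    obtain ⟨y, hy⟩ := ex_of_flat Q (X := LocalizedModule (Submonoid.powers f) M) p
      (g.rTensor _ (K.iCycles (p + 1) c)) (by rw [← comm_apply, hc, map_zero])
    obtain ⟨⟨y0, s⟩, hs⟩ := IsLocalizedModule.surj (Submonoid.powers f) (g.rTensor (Q.complex.X (p + 2))) y
    obtain ⟨⟨_, n, rfl⟩, hn⟩ := (IsLocalizedModule.eq_iff_exists (Submonoid.powers f)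
      (g.rTensor (Q.complex.X (p + 1)))).1 (show g.rTensor (Q.complex.X (p + 1)) ((dQ Q (p + 1)).lTensor M y0) =
        g.rTensor _ ((s : A) • K.iCycles (p + 1) c) by
      rw [comm_apply, show g.rTensor (Q.complex.X (p + 2)) y0 = (s : A) • y from hs.symm, map_smul, map_smul, hy])
    obtain ⟨m, hm⟩ := s.2
    refine ⟨n + m, ?_⟩
    rw [← map_smul]
    have e : (f ^ (n + m) • c : K.cycles (p + 1)) = K.toCycles (p + 2) (p + 1) (f ^ n • y0) := by
      refine (ModuleCat.mono_iff_injective (K.iCycles (p + 1))).1 inferInstance ?_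
      rw [map_smul]
      show _ = (K.toCycles (p + 2) (p + 1) ≫ K.iCycles (p + 1)).hom (f ^ n • y0)
      rw [HomologicalComplex.toCycles_i]
      show _ = (dQ Q (p + 1)).lTensor M (f ^ n • y0)
      rw [map_smul, pow_add, mul_smul]
      exact (hm ▸ hn).symm
    rw [e]
    show (K.toCycles (p + 2) (p + 1) ≫ K.homologyπ (p + 1)).hom (f ^ n • y0) = 0
    rw [HomologicalComplex.toCycles_comp_homologyπ]
    rfl
  let φ := (Q.isoLeftDerivedObj (Groth.Agent.TorBridge.KerNat.ten M) (p + 1)).toLinearEquiv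
  have H' : ∀ y : ((Tor (ModuleCat.{u} A) (p + 1)).obj M).obj (ModuleCat.of A X), ∃ n : ℕ, f ^ n • y = 0 := fun y => by
    obtain ⟨n, hn⟩ := H (φ y)
    exact ⟨n, φ.injective (by rw [map_smul, map_zero]; exact hn)⟩
  let g : X →ₗ[A] X := (LinearEquiv.ofBijective (f • (LinearMap.id : X →ₗ[A] X)) hu).symm.toLinearMap
  have hg : f • ModuleCat.ofHom g = 𝟙 (ModuleCat.of A X) := ModuleCat.hom_ext (LinearMap.ext fun x => by
    show f • g x = x
    exact (LinearEquiv.ofBijective (f • (LinearMap.id : X →ₗ[A] X)) hu).apply_symm_apply x)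
  let QM := projectiveResolution M
  have hinj : ∀ z : (H1TorAR.C QM (ModuleCat.of A X)).homology (p + 1), f • z = 0 → z = 0 := fun z hz => by
    have h : f • H1TorAR.hmap QM (ModuleCat.ofHom g) (p + 1) = 𝟙 _ := by
      rw [← HomologicalComplex.homologyMap_id, ← H1TorAR.homologyMap_smul']
      congr 1
      refine HomologicalComplex.hom_ext _ _ fun j => ?_
      refine ModuleCat.hom_ext (TensorProduct.ext' fun x q => ?_)
      show f • (g x ⊗ₜ[A] q) = x ⊗ₜ[A] q
      rw [TensorProduct.smul_tmul', show f • g x = x from congrArg (fun k => k.hom x) hg]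
    have h' : f • (H1TorAR.hmap QM (ModuleCat.ofHom g) (p + 1)).hom z = z := congrArg (fun k => k.hom z) h
    rw [← map_smul, hz, map_zero] at h'
    exact h'.symm
  obtain ⟨e⟩ := Groth.Agent.CAlgOdd.TorSymm.nonempty_flip (R := A) (p + 1)
  let ψ := ((e.app M).app (ModuleCat.of A X)).toLinearEquiv.trans
    (QM.isoLeftDerivedObj (Groth.Agent.TorBridge.KerNat.ten (ModuleCat.of A X)) (p + 1)).toLinearEquiv
  refine ⟨fun y y' => ?_⟩
  suffices ∀ z : ((Tor (ModuleCat.{u} A) (p + 1)).obj M).obj (ModuleCat.of A X), z = 0 by rw [this y, this y']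
  intro y
  obtain ⟨n, hn⟩ := H' y
  refine ψ.injective ?_
  rw [map_zero]
  have : f ^ n • ψ y = 0 := by rw [← map_smul, hn, map_zero]
  clear hn
  induction n with
  | zero => rwa [pow_zero, one_smul] at this
  | succ n ih => exact ih (hinj _ (by rw [← mul_smul, ← pow_succ']; exact this))

end H1TorFlat
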