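import Groth.Agent.H1TorFlat.Basic
import Mathlib

/-! Flatness from flatness off `V(I)` and vanishing of finitely many `Tor(M, A/I)`. -/

set_option autoImplicit false
set_option backward.isDefEq.respectTransparency false
set_option backward.isDefEq.respectTransparency.types false
set_option linter.style.haveILetI false

universe u

open TensorProduct CategoryTheory H1PerfTor

namespace H1TorFlat

variable {A : Type u} [CommRing A] {M : ModuleCat.{u} A}

/-- Modules over `A/I`. -/
theorem ex_killed (I : Ideal A) (hflat : Module.Flat (A ⧸ I) ((A ⧸ I) ⊗[A] M)) :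
    ∀ (p : ℕ), (∀ q ≤ p, Ex (projectiveResolution M) (A ⧸ I) q) →
      ∀ (X : Type u) [AddCommGroup X] [Module A X], (∀ a ∈ I, ∀ x : X, a • x = 0) →
        Ex (projectiveResolution M) X p := by
  intro p hp X _ _ hX
  letI : Module (A ⧸ I) X := Module.IsTorsionBySet.module (R := A) (I := I) fun x a => hX a.1 a.2 x
  haveI : IsScalarTower A (A ⧸ I) X := Module.IsTorsionBySet.isScalarTower _
  let π' : (X →₀ A ⧸ I) →ₗ[A ⧸ I] X := Finsupp.linearCombination (A ⧸ I) id
  let π : (X →₀ A ⧸ I) →ₗ[A] X := π'.restrictScalars A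
  let i' : LinearMap.ker π' →ₗ[A ⧸ I] (X →₀ A ⧸ I) := (LinearMap.ker π').subtype
  let i : LinearMap.ker π' →ₗ[A] (X →₀ A ⧸ I) := i'.restrictScalars A
  have hπ : Function.Surjective π := Finsupp.linearCombination_id_surjective (A ⧸ I) X
  have hi : Function.Injective i := Subtype.val_injective
  have hex : Function.Exact i π := LinearMap.exact_subtype_ker_map π'
  cases p with
  | zero =>
    refine coker_zero (projectiveResolution M) (X₁ := LinearMap.ker π') i π hi hπ hex (ex_finsupp _ X 0 (hp 0 le_rfl)) ?_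
    let eK := AlgebraTensorModule.cancelBaseChange A (A ⧸ I) (A ⧸ I) (LinearMap.ker π') M
    let eF := AlgebraTensorModule.cancelBaseChange A (A ⧸ I) (A ⧸ I) (X →₀ A ⧸ I) M
    have h : ∀ z, i.rTensor M z = eF (i'.rTensor ((A ⧸ I) ⊗[A] M) (eK.symm z)) := fun z => by
      induction z using TensorProduct.induction_on with
      | zero => simp
      | tmul a b =>
        rw [AlgebraTensorModule.cancelBaseChange_symm_tmul, LinearMap.rTensor_tmul, LinearMap.rTensor_tmul,
          AlgebraTensorModule.cancelBaseChange_tmul, one_smul]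
        rfl
      | add a b ha hb => simp only [map_add, ha, hb]
    intro z w hzw
    rw [h, h] at hzw
    exact eK.symm.injective (Module.Flat.rTensor_preserves_injective_linearMap (M := (A ⧸ I) ⊗[A] M) i'
      Subtype.val_injective (eF.injective hzw))
  | succ p =>
    refine coker_succ (projectiveResolution M) (X₁ := LinearMap.ker π') i π hi hπ hex p ?_ (ex_finsupp _ X (p + 1) (hp _ le_rfl))
    exact ex_killed I hflat p (fun q hq => hp q (by omega)) _ fun a ha x => by
      rw [← algebraMap_smul (A ⧸ I) a x, Ideal.Quotient.algebraMap_eq, Ideal.Quotient.eq_zero_iff_mem.2 ha, zero_smul]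

/-- Torsion for one more element. -/
theorem ex_torsion {I J : Ideal A} (f : A) (hI : ∀ a ∈ I, a ∈ J ⊔ Ideal.span {f}) (p : ℕ)
    (h : ∀ (X : Type u) [AddCommGroup X] [Module A X], (∀ a ∈ I, ∀ x : X, a • x = 0) →
      Ex (projectiveResolution M) X p) :
    ∀ (n : ℕ) (X : Type u) [AddCommGroup X] [Module A X], (∀ a ∈ J, ∀ x : X, a • x = 0) → (∀ x : X, f ^ n • x = 0) →
      Ex (projectiveResolution M) X p
  | 0, X, _, _, _, hf => by
    haveI : Subsingleton X := ⟨fun x y => by
      have hx := hf x; have hy := hf y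
      rw [pow_zero, one_smul] at hx hy
      rw [hx, hy]⟩
    exact ex_of_flat _ p
  | n + 1, X, _, _, hJ, hf => by
    let S : Submodule A X := LinearMap.ker (f • (LinearMap.id : X →ₗ[A] X))
    refine middle (projectiveResolution M) S.subtype S.mkQ S.mkQ_surjective (LinearMap.exact_subtype_mkQ S) p ?_ ?_
      Subtype.val_injective
    · refine h S fun a ha x => ?_
      obtain ⟨j, hj, b, hb, rfl⟩ := Submodule.mem_sup.1 (hI a ha)
      obtain ⟨c, rfl⟩ := Ideal.mem_span_singleton'.1 hb
      have hx : f • (x : X) = 0 := x.2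
      refine Subtype.ext ?_
      show (j + c * f) • (x : X) = 0
      rw [add_smul, hJ j hj, mul_smul, hx, smul_zero, add_zero]
    · refine ex_torsion f hI p h n _ (fun a ha x => ?_) fun x => ?_
      · obtain ⟨x, rfl⟩ := S.mkQ_surjective x
        rw [← map_smul, hJ a ha, map_zero]
      · obtain ⟨x, rfl⟩ := S.mkQ_surjective x
        rw [← map_smul, Submodule.mkQ_apply, Submodule.Quotient.mk_eq_zero]
        show f • f ^ n • x = 0
        rw [← mul_smul, ← pow_succ', hf]

/-- Removing one element. -/
theorem ex_step {I J : Ideal A} (f : A) (hI : ∀ a ∈ I, a ∈ J ⊔ Ideal.span {f})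
    (hf : Module.Flat (Localization.Away f) (LocalizedModule (Submonoid.powers f) M)) (k : ℕ)
    (h : ∀ p ≤ k + 1, ∀ (X : Type u) [AddCommGroup X] [Module A X], (∀ a ∈ I, ∀ x : X, a • x = 0) →
      Ex (projectiveResolution M) X p) :
    ∀ p ≤ k, ∀ (X : Type u) [AddCommGroup X] [Module A X], (∀ a ∈ J, ∀ x : X, a • x = 0) →
      Ex (projectiveResolution M) X p := by
  intro p hp X _ _ hJ
  haveI : Module.Flat A (Localization.Away f) := IsLocalization.flat _ (Submonoid.powers f)
  haveI : Module.Flat A (LocalizedModule (Submonoid.powers f) M) :=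
    Module.Flat.trans A (Localization (Submonoid.powers f)) _
  have hpow : ∀ q ≤ k + 1, ∀ (Z : Type u) [AddCommGroup Z] [Module A Z], (∀ a ∈ J, ∀ z : Z, a • z = 0) →
      (∀ z : Z, ∃ n : ℕ, f ^ n • z = 0) → Ex (projectiveResolution M) Z q := by
    intro q hq Z _ _ hZ hZf
    let T : ULift.{u} ℕ → Submodule A Z := fun n => LinearMap.ker ((f ^ n.down) • (LinearMap.id : Z →ₗ[A] Z))
    have hT : ∀ i j, i ≤ j → T i ≤ T j := fun i j hij z hz => by
      have hz : f ^ i.down • z = 0 := hz
      show f ^ j.down • z = 0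
      rw [← Nat.sub_add_cancel (show i.down ≤ j.down from hij), pow_add, mul_smul, hz, smul_zero]
    refine ex_colim _ (Xi := fun n => T n)
      { u := fun n => (T n).subtype
        v := fun i j hij => Submodule.inclusion (hT i j hij)
        comp := fun i j hij => rfl
        trans := fun i j l hij hjl => rfl
        surj := fun z => by obtain ⟨n, hn⟩ := hZf z; exact ⟨⟨n⟩, ⟨z, hn⟩, rfl⟩
        kill := fun i z hz => ⟨i, le_rfl, Subtype.ext hz⟩ } q fun n => ?_
    exact ex_torsion f hI q (h q hq) n.down _ (fun a ha z => Subtype.ext (hZ a ha z)) fun z => Subtype.ext z.2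
  let g := LocalizedModule.mkLinearMap (Submonoid.powers f) X
  have hN : ∀ q, Ex (projectiveResolution M) (LocalizedModule (Submonoid.powers f) X) q := fun q => by
    refine ex_of_isUnit f ?_ q
    exact (Module.End.isUnit_iff _).1 (IsLocalizedModule.map_units g ⟨f, Submonoid.mem_powers f⟩)
  have hsurj : ∀ y : LocalizedModule (Submonoid.powers f) X, ∃ n : ℕ, f ^ n • y ∈ LinearMap.range g := fun y => by
    obtain ⟨⟨x, ⟨_, n, rfl⟩⟩, hx⟩ := IsLocalizedModule.surj (Submonoid.powers f) g y
    exact ⟨n, x, hx.symm⟩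
  have hL : Ex (projectiveResolution M) (LinearMap.range g) p := by
    refine sub (projectiveResolution M) (LinearMap.range g).subtype (LinearMap.range g).mkQ Subtype.val_injective
      (Submodule.mkQ_surjective _) (LinearMap.exact_subtype_mkQ _) p (hN p) ?_
    refine hpow (p + 1) (by omega) _ (fun a ha z => ?_) fun z => ?_
    · obtain ⟨y, rfl⟩ := Submodule.mkQ_surjective _ z
      obtain ⟨n, x, hx⟩ := hsurj y
      have : a • y = 0 := by
        refine ((Module.End.isUnit_iff _).1 (IsLocalizedModule.map_units g (⟨f ^ n, n, rfl⟩ : Submonoid.powers f))).1 ?_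
        show f ^ n • a • y = f ^ n • (0 : LocalizedModule (Submonoid.powers f) X)
        rw [smul_comm, ← hx, ← map_smul, hJ a ha, map_zero, smul_zero]
      rw [← map_smul, this, map_zero]
    · obtain ⟨y, rfl⟩ := Submodule.mkQ_surjective _ z
      obtain ⟨n, hn⟩ := hsurj y
      exact ⟨n, by rw [← map_smul, Submodule.mkQ_apply, Submodule.Quotient.mk_eq_zero]; exact hn⟩
  refine middle (projectiveResolution M) (LinearMap.ker g).subtype g.rangeRestrict (LinearMap.surjective_rangeRestrict g)
    (fun x => by
      rw [Submodule.coe_subtype, Subtype.range_coe_subtype]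
      exact ⟨fun hx => congrArg Subtype.val hx, fun hx => Subtype.ext hx⟩) p ?_ hL Subtype.val_injective
  refine hpow p (by omega) _ (fun a ha z => Subtype.ext (hJ a ha z)) fun z => ?_
  obtain ⟨⟨_, n, rfl⟩, hn⟩ := (IsLocalizedModule.eq_zero_iff (Submonoid.powers f) g).1 z.2
  exact ⟨n, Subtype.ext hn⟩

/-- The criterion. -/
theorem flat_of_tor {r : ℕ} (f : Fin r → A)
    (h1 : ∀ i, Module.Flat (Localization.Away (f i)) (LocalizedModule (Submonoid.powers (f i)) M))
    (h2 : Module.Flat (A ⧸ Ideal.span (Set.range f)) ((A ⧸ Ideal.span (Set.range f)) ⊗[A] M))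
    (h3 : ∀ p ≤ r, Ex (projectiveResolution M) (A ⧸ Ideal.span (Set.range f)) p) : Module.Flat A M := by
  let J : ℕ → Ideal A := fun j => Ideal.span (f '' {i | i.1 < j})
  have key : ∀ d j, j + d = r → ∀ p ≤ j, ∀ (X : Type u) [AddCommGroup X] [Module A X],
      (∀ a ∈ J j, ∀ x : X, a • x = 0) → Ex (projectiveResolution M) X p := by
    intro d
    induction d with
    | zero =>
      intro j hj p hp X _ _ hX
      obtain rfl : j = r := by omega
      refine ex_killed _ h2 p (fun q hq => h3 q (by omega)) X fun a ha => hX a ?_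
      rwa [show J j = Ideal.span (Set.range f) by simp [J]]
    | succ d ih =>
      intro j hj
      refine ex_step (f ⟨j, by omega⟩) (I := J (j + 1)) (fun a ha => ?_) (h1 _) j (ih (j + 1) (by omega))
      refine (Ideal.span_le.2 ?_ : J (j + 1) ≤ J j ⊔ Ideal.span {f ⟨j, by omega⟩}) ha
      rintro _ ⟨i, hi, rfl⟩
      rcases Nat.lt_or_ge i.1 j with hlt | hge
      · exact Ideal.mem_sup_left (Ideal.subset_span ⟨i, hlt, rfl⟩)
      · have : i = ⟨j, by omega⟩ := Fin.ext (show i.1 = j by simp only [Set.mem_setOf_eq] at hi; omega)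
        rw [this]
        exact Ideal.mem_sup_right (Ideal.mem_span_singleton_self _)
  rw [Module.Flat.iff_rTensor_injective']
  intro I
  refine rTensor_injective (projectiveResolution M) I.subtype I.mkQ Subtype.val_injective I.mkQ_surjective
    (LinearMap.exact_subtype_mkQ I) (key r 0 (Nat.zero_add r) 0 le_rfl (A ⧸ I) fun a ha x => ?_)
  have : a = 0 := by simpa [J] using ha
  rw [this, zero_smul]

end H1TorFlat
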